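import Mathlib.GroupTheory.Index
import Mathlib.GroupTheory.Sylow
import Mathlib.GroupTheory.GroupAction.Quotient
import Mathlib.Data.Nat.Bitwise
import Mathlib.Tactic.Group
import Mathlib.Algebra.BigOperators.Group.List.Basic

/-!
# Groups generated by a polycyclic sequence of involutions
-/

set_option autoImplicit false

namespace CfsgLib.Fi23Sylow

variable {G : Type*} [Group G]

/-- Adjoining a normalising involution at most doubles the order. -/
theorem card_adjoin_le [Finite G] (K : Subgroup G) (q : G) (hq : q * q = 1)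
    (hn : ∀ x ∈ K, q * x * q ∈ K) :
    Nat.card ↥(K ⊔ Subgroup.zpowers q) ≤ 2 * Nat.card K := by
  have hqi : q⁻¹ = q := inv_eq_of_mul_eq_one_right hq
  let U : Subgroup G :=
    { carrier := {g | g ∈ K ∨ g * q ∈ K}
      one_mem' := Or.inl K.one_mem
      mul_mem' := by
        intro a b ha hb
        rcases ha with ha | ha <;> rcases hb with hb | hb
        · exact Or.inl (mul_mem ha hb)
        · exact Or.inr (by rw [mul_assoc]; exact mul_mem ha hb)
        · refine Or.inr ?_
          have := mul_mem ha (hn b hb)
          rwa [show a * q * (q * b * q) = a * (q * q) * b * q by group, hq, mul_one] at this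
        · refine Or.inl ?_
          have := mul_mem ha (hn _ hb)
          rwa [show a * q * (q * (b * q) * q) = a * (q * q) * b * (q * q) by group, hq, mul_one,
            mul_one] at this
      inv_mem' := by
        intro a ha
        rcases ha with ha | ha
        · exact Or.inl (inv_mem ha)
        · refine Or.inr ?_
          have := hn _ (inv_mem ha)
          rwa [show q * (a * q)⁻¹ * q = q * q⁻¹ * (a⁻¹ * q) by group, mul_inv_cancel, one_mul]
            at this }
  have hle : K ⊔ Subgroup.zpowers q ≤ U :=
    sup_le (fun x hx => Or.inl hx)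
      (Subgroup.zpowers_le.2 (Or.inr (by rw [hq]; exact one_mem K)))
  refine (Subgroup.card_le_of_le hle).trans ?_
  classical
  refine (Nat.card_le_card_of_surjective
    (fun p : Bool × K => (⟨if p.1 then (p.2 : G) * q else p.2, by
      cases p.1
      · exact Or.inl p.2.2
      · exact Or.inr (by simp [mul_assoc, hq])⟩ : U)) ?_).trans ?_
  · rintro ⟨g, hg | hg⟩
    · exact ⟨(false, ⟨g, hg⟩), rfl⟩
    · exact ⟨(true, ⟨g * q, hg⟩), Subtype.ext (by simp [mul_assoc, hq])⟩
  · rw [Nat.card_prod, Nat.card_eq_fintype_card, Fintype.card_bool]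

/-- The first `m` members of a sequence. -/
def prefixGrp (s : ℕ → G) (m : ℕ) : Subgroup G := Subgroup.closure (s '' {i | i < m})

theorem mem_prefixGrp (s : ℕ → G) {m i : ℕ} (h : i < m) : s i ∈ prefixGrp s m :=
  Subgroup.subset_closure ⟨i, h, rfl⟩

theorem prefixGrp_mono (s : ℕ → G) {m k : ℕ} (h : m ≤ k) : prefixGrp s m ≤ prefixGrp s k :=
  Subgroup.closure_mono (Set.image_mono fun i (hi : i < m) => Nat.lt_of_lt_of_le hi h)

/-- A polycyclic sequence of involutions generates at most `2 ^ m` elements. -/
theorem card_prefix_le [Finite G] (s : ℕ → G) :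
    ∀ m, (∀ i < m, s i * s i = 1) → (∀ i < m, ∀ j < i, s i * s j * s i ∈ prefixGrp s i) →
      Nat.card (prefixGrp s m) ≤ 2 ^ m
  | 0, _, _ => by
    have : prefixGrp s 0 = ⊥ := by
      rw [prefixGrp, Subgroup.closure_eq_bot_iff]
      rintro _ ⟨i, hi, rfl⟩
      exact absurd hi (Nat.not_lt_zero i)
    simp [this]
  | m + 1, hsq, hcj => by
    have hle : prefixGrp s (m + 1) ≤ prefixGrp s m ⊔ Subgroup.zpowers (s m) := by
      refine (Subgroup.closure_le _).2 ?_
      rintro _ ⟨i, hi, rfl⟩
      rcases Nat.lt_succ_iff_lt_or_eq.1 hi with h | h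
      · exact Subgroup.mem_sup_left (mem_prefixGrp s h)
      · exact Subgroup.mem_sup_right (h ▸ Subgroup.mem_zpowers _)
    have hq : s m * s m = 1 := hsq m m.lt_succ_self
    have hn : ∀ x ∈ prefixGrp s m, s m * x * s m ∈ prefixGrp s m := by
      intro x hx
      induction hx using Subgroup.closure_induction with
      | mem y hy =>
        obtain ⟨j, hj, rfl⟩ := hy
        exact hcj m m.lt_succ_self j hj
      | one => simp [hq]
      | mul a b _ _ ha hb =>
        have := mul_mem ha hb
        rwa [show s m * a * s m * (s m * b * s m) = s m * a * (s m * s m) * b * s m by group, hq,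
          mul_one, show s m * a * b * s m = s m * (a * b) * s m by group] at this
      | inv a _ ha =>
        have := inv_mem ha
        rwa [mul_inv_rev, mul_inv_rev, inv_eq_of_mul_eq_one_right hq, ← mul_assoc] at this
    calc Nat.card (prefixGrp s (m + 1)) ≤ Nat.card ↥(prefixGrp s m ⊔ Subgroup.zpowers (s m)) :=
          Subgroup.card_le_of_le hle
      _ ≤ 2 * Nat.card (prefixGrp s m) := card_adjoin_le _ _ hq hn
      _ ≤ 2 * 2 ^ m := Nat.mul_le_mul_left 2 (card_prefix_le s m
          (fun i hi => hsq i (hi.trans m.lt_succ_self))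
          (fun i hi => hcj i (hi.trans m.lt_succ_self)))
      _ = 2 ^ (m + 1) := by rw [pow_succ, mul_comm]

/-- The product of the members selected by the bits of `v`. -/
def sel : List G → ℕ → G
  | [], _ => 1
  | t :: ts, v => (if v.testBit 0 then t else 1) * sel ts (v / 2)

theorem sel_comm {ts : List G} {a : G} (h : ∀ t ∈ ts, Commute a t) :
    ∀ v, Commute a (sel ts v) := by
  induction ts with
  | nil => intro v; exact Commute.one_right a
  | cons t ts ih =>
    intro v
    refine Commute.mul_right ?_ (ih (fun x hx => h x (List.mem_cons_of_mem _ hx)) _)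
    split
    · exact h t List.mem_cons_self
    · exact Commute.one_right a

theorem sel_mul {ts : List G} (hsq : ∀ t ∈ ts, t * t = 1)
    (hc : ∀ t ∈ ts, ∀ u ∈ ts, Commute t u) :
    ∀ v w, sel ts v * sel ts w = sel ts (v ^^^ w) := by
  induction ts with
  | nil => intro v w; simp [sel]
  | cons t ts ih =>
    intro v w
    have hts : ∀ x ∈ ts, Commute t x := fun x hx =>
      hc t List.mem_cons_self x (List.mem_cons_of_mem _ hx)
    have e : (v ^^^ w) / 2 = (v / 2) ^^^ (w / 2) := Nat.xor_div_two
    have ih' := ih (fun x hx => hsq x (List.mem_cons_of_mem _ hx))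
      (fun x hx y hy => hc x (List.mem_cons_of_mem _ hx) y (List.mem_cons_of_mem _ hy)) (v / 2) (w / 2)
    simp only [sel, Nat.testBit_xor, e, ← ih']
    cases hv : v.testBit 0 <;> cases hw : w.testBit 0 <;> simp
    · rw [← mul_assoc, ← (sel_comm hts (v / 2)).eq, mul_assoc]
    · rw [mul_assoc]
    · rw [show t * sel ts (v / 2) * (t * sel ts (w / 2)) =
        t * (sel ts (v / 2) * t) * sel ts (w / 2) by group, ← (sel_comm hts (v / 2)).eq, ← mul_assoc,
        hsq t List.mem_cons_self, one_mul]

end CfsgLib.Fi23Sylow
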