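import Cfsg.Agent.Fi23Sylow.Points
import Cfsg.Agent.Fi23Sylow.Pc
import Cfsg.Agent.Fi23Sylow.Data

/-!
# The kernel checks for the Sylow 2-subgroup of Fi23
-/

set_option autoImplicit false
set_option maxRecDepth 100000

namespace CfsgLib.Fi23Sylow

open CfsgLib.GraphPerm (tget slpOK slpTabs forBelow permOK SStep)

/-- The letter of a transposition of the list. -/
def tX (k : ℕ) : ℕ := (baseT.getD k (0, [])).1

/-- The conjugating word of a transposition of the list. -/
def tU (k : ℕ) : List ℕ := (baseT.getD k (0, [])).2

/-- The word of a transposition of the list. -/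
def tWord (k : ℕ) : List ℕ := (tU k).reverse ++ [tX k] ++ tU k

/-- A word carrying `z` to a transposition of the list. -/
def bWord (k : ℕ) : List ℕ := letterWord (tX k) ++ tU k

/-- The basis words. -/
def basisW : List (List ℕ) := basisIx.map tWord

/-- The word of the members selected by the bits. -/
def wordSel : List (List ℕ) → ℕ → List ℕ
  | [], _ => []
  | t :: ts, v => (if v.testBit 0 then t else []) ++ wordSel ts (v / 2)

/-- The selected sum of coordinates. -/
def xSel : List ℕ → ℕ → ℕ
  | [], _ => 0
  | c :: cs, v => (if v.testBit 0 then c else 0) ^^^ xSel cs (v / 2)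

/-- The action of a table on coordinates. -/
def act (t v : ℕ) : ℕ := xSel (basisIx.map fun j => coord.getD (tget t j) 0) v

/-- The points of the letters. -/
noncomputable def keyPts : List ℕ := (List.range 10).map fun x => wk (letterWord x) 0

/-- Agreement on the points of the letters. -/
noncomputable def keyEq (u v : List ℕ) : Bool :=
  keyPts.all fun p => Nat.beq (wk (u ++ v.reverse) p) p

theorem words_ok : (forBelow 23 fun k => okW (tWord k) && okW (bWord k) && decide (tX k < 10)) = true ∧
    qWords.all okW = true ∧ basisW.all okW = true ∧ basisIx.all (fun j => decide (j < 23)) = true ∧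
    basisIx.length = 11 ∧ qWords.length = 7 ∧ qTabs.length = 7 ∧
    coord.all (fun c => decide (c < 2048)) = true := by
  decide +kernel

theorem commute_ok : (forBelow 23 fun k => forBelow 23 fun l =>
    Nat.beq (wk (tWord k) (wk (bWord l) 0)) (wk (bWord l) 0)) = true := by
  decide +kernel

theorem coord_ok : (forBelow 23 fun k => keyEq (tWord k) (wordSel basisW (coord.getD k 0))) = true ∧
    GraphPerm.noDup ((List.range 23).map fun k => coord.getD k 0) = true := by
  decide +kernel

theorem qsq_ok : qWords.all (fun w => keyEq (w ++ w) []) = true := by decide +kernel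

theorem qconj_ok : (forBelow 7 fun i => forBelow 23 fun k =>
    decide (tget (qTabs.getD i 0) k < 23) &&
      Nat.beq (wk (qWords.getD i []) (wk (bWord k) 0)) (wk (bWord (tget (qTabs.getD i 0) k)) 0)) = true := by
  decide +kernel

theorem qrel_ok : (forBelow 7 fun i => forBelow i fun j =>
    decide (((qRel.getD i []).getD j (0, 0)).1 < 2048) &&
      decide (((qRel.getD i []).getD j (0, 0)).2 < 2 ^ i) &&
      keyEq (qWords.getD i [] ++ qWords.getD j [] ++ qWords.getD i [])
        (wordSel basisW ((qRel.getD i []).getD j (0, 0)).1 ++
          wordSel qWords ((qRel.getD i []).getD j (0, 0)).2)) = true := by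
  decide +kernel

theorem indep_ok : (forBelow 2048 fun v =>
    Nat.beq v 0 || keyPts.any fun p => !(Nat.beq (wk (wordSel basisW v) p) p)) = true := by
  decide +kernel

/-- The tables of the permutation group. -/
def pTabs : List ℕ := pSteps.map fun s => s.2.2

/-- Composition of tables at a point. -/
def tcomm (a b : ℕ) : Bool := forBelow 23 fun x => tget a (tget b x) == tget b (tget a x)

theorem perm_ok : slpOK 23 qTabs pSteps = true ∧ pTabs.length = 128 ∧
    GraphPerm.noDup (pTabs.map fun t => (List.range 23).map (tget t) |>.foldl (fun s x => 23 * s + x) 0) = true := by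
  decide +kernel

theorem inv_ok : pTabs.all (fun e => (forBelow 23 fun x => tget e x == x) ||
    !(forBelow 23 fun x => tget e (tget e x) == x) || invTabs.contains e) = true := by
  decide +kernel

theorem fix_ok : invTabs.length = 35 ∧ fixData.length = 35 ∧ (forBelow 35 fun a =>
    (List.range 2048).filter (fun v => act (invTabs.getD a 0) v == v) == fixData.getD a [] &&
      decide ((fixData.getD a []).length ≤ 128)) = true := by
  decide +kernel

theorem pair_ok : (forBelow 35 fun a => forBelow 35 fun b =>
    a == b || !(tcomm (invTabs.getD a 0) (invTabs.getD b 0)) ||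
      decide (((fixData.getD a []).filter fun v => act (invTabs.getD b 0) v == v).length ≤ 64)) = true := by
  decide +kernel

theorem degree_ok : (invTabs.filter fun a => decide (30 ≤ (invTabs.filter (tcomm a)).length)).length < 30 := by
  decide +kernel

end CfsgLib.Fi23Sylow
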