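import Cfsg.Agent.Fi23Sylow.Structure
import Cfsg.Prelude.Def_Transfer

/-!
# The elementary abelian subgroups of a Sylow 2-subgroup of Fi23
-/

set_option autoImplicit false
set_option maxRecDepth 100000

namespace CfsgLib.Fi23Sylow

open Equiv (Perm)
open CfsgLib.CosetEnum CfsgLib.CosetEnum.Fi23
open CfsgLib.GraphPerm (tget IsTab forBelow forBelow_iff)
open Cfsg (IsElementaryAbelian)

theorem xSel_lt : ∀ (cs : List ℕ) (v : ℕ), (∀ c ∈ cs, c < 2048) → xSel cs v < 2048
  | [], _, _ => by simp [xSel]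
  | c :: cs, v, h => by
    refine Nat.xor_lt_two_pow (n := 11) ?_ (xSel_lt cs _ fun x hx => h x (List.mem_cons_of_mem _ hx))
    split
    · exact h c List.mem_cons_self
    · norm_num

theorem act_lt (t v : ℕ) : act t v < 2048 :=
  xSel_lt _ _ fun c hc => by
    obtain ⟨j, -, rfl⟩ := List.mem_map.1 hc
    exact coord_lt _

theorem tcomm_of_commute {π ρ : Perm (Fin 23)} (h : π * ρ = ρ * π) {a b : ℕ}
    (ha : IsTab π a) (hb : IsTab ρ b) : tcomm a b = true := by
  refine forBelow_iff.2 fun x hx => beq_iff_eq.2 ?_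
  have e := congrArg (fun σ : Perm (Fin 23) => (σ ⟨x, hx⟩).val) h
  simp only [Equiv.Perm.mul_apply] at e
  rw [ha (ρ ⟨x, hx⟩), hb ⟨x, hx⟩, hb (π ⟨x, hx⟩), ha ⟨x, hx⟩] at e
  exact e

theorem eq_one_of_tab {π : Perm (Fin 23)} {t : ℕ} (ht : IsTab π t)
    (h : forBelow 23 (fun x => tget t x == x) = true) : π = 1 :=
  Equiv.ext fun x => Fin.ext (by
    rw [ht x, beq_iff_eq.1 (forBelow_iff.1 h x.val x.isLt)]; rfl)

theorem sq_table {π : Perm (Fin 23)} {t : ℕ} (ht : IsTab π t) (h : π * π = 1) :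
    forBelow 23 (fun x => tget t (tget t x) == x) = true := by
  refine forBelow_iff.2 fun x hx => beq_iff_eq.2 ?_
  have e := congrArg (fun σ : Perm (Fin 23) => (σ ⟨x, hx⟩).val) h
  simp only [Equiv.Perm.mul_apply, Equiv.Perm.one_apply] at e
  rwa [ht (π ⟨x, hx⟩), ht ⟨x, hx⟩] at e

/-- The fixed coordinate vectors of a table in the list. -/
theorem fixData_spec {a : ℕ} (ha : a < 35) :
    fixData.getD a [] = (List.range 2048).filter (fun v => act (invTabs.getD a 0) v == v) ∧
      (fixData.getD a []).length ≤ 128 := by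
  have h := forBelow_iff.1 fix_ok.2.2 a ha
  rw [Bool.and_eq_true, beq_iff_eq, decide_eq_true_eq] at h
  exact ⟨h.1.symm, h.2⟩

theorem index_of_mem {t : ℕ} (h : t ∈ invTabs) : ∃ a < 35, invTabs.getD a 0 = t := by
  obtain ⟨a, ha, rfl⟩ := List.getElem_of_mem h
  exact ⟨a, fix_ok.1 ▸ ha, List.getD_eq_getElem _ _ ha⟩

namespace Model

variable (M : Model)
include M

theorem conj_sel {g : TSub} {t : ℕ} (ht : IsTab (M.permHom g) t) :
    ∀ (L : List ℕ), (∀ j ∈ L, j < 23) → ∀ v : ℕ,
      (g : setup.Grp) * sel ((L.map tWord).map el) v * (g : setup.Grp)⁻¹ =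
        sel basisE (xSel (L.map fun j => coord.getD (tget t j) 0) v)
  | [], _, v => by simp [sel, xSel, sel_zero]
  | j :: L, hL, v => by
    have ih := conj_sel ht L (fun i hi => hL i (List.mem_cons_of_mem _ hi)) (v / 2)
    have hj : (g : setup.Grp) * el (tWord j) * (g : setup.Grp)⁻¹ =
        sel basisE (coord.getD (tget t j) 0) := by
      have h := M.permHom_spec g ⟨j, hL j List.mem_cons_self⟩
      rw [M.tE_coord (M.permHom g _), ht] at h
      exact h
    simp only [List.map_cons, sel, xSel]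
    rw [← M.sel_basis_mul, ← ih]
    split
    · rw [← hj]; group
    · rw [sel_zero]; group

theorem conj_basis {g : TSub} {t : ℕ} (ht : IsTab (M.permHom g) t) (v : ℕ) :
    (g : setup.Grp) * sel basisE v * (g : setup.Grp)⁻¹ = sel basisE (act t v) :=
  M.conj_sel ht basisIx
    (fun j hj => of_decide_eq_true (List.all_eq_true.1 words_ok.2.2.2.1 j hj)) v

theorem E_normal : (M.E.subgroupOf TSub).Normal := by
  refine ⟨fun n hn g => ?_⟩
  obtain ⟨v, -, hv⟩ := Subgroup.mem_subgroupOf.1 hn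
  obtain ⟨t, -, ht⟩ := M.card_T_and_perms.2.2 g
  rw [Subgroup.mem_subgroupOf, Subgroup.coe_mul, Subgroup.coe_mul, Subgroup.coe_inv, hv,
    M.conj_basis ht]
  exact ⟨_, act_lt t v, rfl⟩

theorem E_elementary : IsElementaryAbelian 2 M.E := by
  refine ⟨⟨⟨?_⟩⟩, ?_⟩
  · rintro ⟨_, v, -, rfl⟩ ⟨_, w, -, rfl⟩
    exact Subtype.ext (by
      show sel basisE v * sel basisE w = sel basisE w * sel basisE v
      rw [M.sel_basis_mul, M.sel_basis_mul, Nat.xor_comm])
  · rintro _ ⟨v, -, rfl⟩
    rw [pow_two, M.sel_basis_mul, Nat.xor_self, sel_zero]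

theorem inv_table {π : Perm (Fin 23)} {t : ℕ} (hmem : t ∈ pTabs) (ht : IsTab π t)
    (hne : π ≠ 1) (hsq : π * π = 1) : t ∈ invTabs := by
  have h := List.all_eq_true.1 inv_ok t hmem
  rcases Bool.or_eq_true_iff.1 h with h | h
  · rcases Bool.or_eq_true_iff.1 h with h | h
    · exact absurd (eq_one_of_tab ht h) hne
    · rw [sq_table ht hsq] at h; exact absurd h (by simp)
  · exact List.contains_iff_mem.1 h

theorem card_kernel_le {A : Subgroup setup.Grp} (hA : A ≤ TSub)
    (L : List ℕ)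
    (hL : ∀ v < 2048, sel basisE v ∈ A → v ∈ L) :
    Nat.card (M.permHom.comp (Subgroup.inclusion hA)).ker ≤ L.length := by
  classical
  choose v hv hev using fun x : (M.permHom.comp (Subgroup.inclusion hA)).ker =>
    M.card_T_and_perms.2.1 (Subgroup.inclusion hA x.1) x.2
  have hev' : ∀ x, ((x.1 : A) : setup.Grp) = sel basisE (v x) := hev
  refine (Nat.card_le_card_of_injective
    (β := L.toFinset) (fun x => ⟨v x, List.mem_toFinset.2 (hL _ (hv x) (hev' x ▸ x.1.2))⟩) ?_).trans ?_
  · intro x y e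
    have e' : v x = v y := congrArg Subtype.val e
    exact Subtype.ext (Subtype.ext (by rw [hev' x, hev' y, e']))
  · rw [Nat.card_eq_fintype_card, Fintype.card_coe]
    exact List.toFinset_card_le L

theorem fixed_of_commute {g : TSub} {t v : ℕ} (ht : IsTab (M.permHom g) t) (hv : v < 2048)
    (hc : (g : setup.Grp) * sel basisE v = sel basisE v * (g : setup.Grp)) : act t v = v := by
  refine M.sel_inj (act_lt t v) hv ?_
  rw [← M.conj_basis ht, hc, mul_inv_cancel_right]

theorem card_le {A : Subgroup setup.Grp} (hA : A ≤ TSub) (he : IsElementaryAbelian 2 A) :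
    Nat.card A ≤ 2 ^ 11 ∧ (Nat.card A = 2 ^ 11 → A = M.E) := by
  classical
  haveI := finite_grp
  set f := M.permHom.comp (Subgroup.inclusion hA) with hf
  have hmul : Nat.card A = Nat.card f.range * Nat.card f.ker := by
    rw [← Nat.card_congr (QuotientGroup.quotientKerEquivRange f).toEquiv,
      ← Subgroup.card_eq_card_quotient_mul_card_subgroup]
  have hcomm : ∀ x y : A, (x : setup.Grp) * y = (y : setup.Grp) * x := fun x y =>
    congrArg Subtype.val (he.1.is_comm.comm x y)
  have hsq : ∀ x : A, x * x = 1 := fun x =>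
    Subtype.ext (by simpa [pow_two] using he.2 _ x.2)
  have hfc : ∀ x y : A, f x * f y = f y * f x := fun x y => by
    rw [← map_mul, ← map_mul, show x * y = y * x from Subtype.ext (hcomm x y)]
  choose τ hτmem hτ using fun x : A => M.card_T_and_perms.2.2 (Subgroup.inclusion hA x)
  have hτ' : ∀ x, IsTab (f x) (τ x) := hτ
  have hinv : ∀ x : A, f x ≠ 1 → τ x ∈ invTabs := fun x hx =>
    M.inv_table (hτmem x) (hτ' x) hx (by rw [← map_mul, hsq, map_one])
  have hfix : ∀ (x : A) (v : ℕ), v < 2048 → sel basisE v ∈ A → act (τ x) v = v := fun x v hv hm =>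
    M.fixed_of_commute (hτ x) hv (hcomm x ⟨_, hm⟩)
  by_cases h1 : ∀ x : A, f x = 1
  · have hle : A ≤ M.E := fun a ha => M.card_T_and_perms.2.1 ⟨a, hA ha⟩ (h1 ⟨a, ha⟩)
    refine ⟨by rw [show (2 : ℕ) ^ 11 = Nat.card M.E by rw [M.card_E]; rfl]
               exact Subgroup.card_le_of_le hle, fun h => ?_⟩
    exact Subgroup.eq_of_le_of_card_ge hle (by rw [h, M.card_E]; norm_num)
  · suffices Nat.card A < 2 ^ 11 from ⟨this.le, fun h => absurd h this.ne⟩
    push_neg at h1
    obtain ⟨a, ha⟩ := h1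
    obtain ⟨ia, hia, eia⟩ := index_of_mem (hinv a ha)
    have hka : Nat.card f.ker ≤ 128 := by
      refine (M.card_kernel_le hA (fixData.getD ia []) fun v hv hm => ?_).trans (fixData_spec hia).2
      rw [(fixData_spec hia).1, List.mem_filter, eia]
      exact ⟨List.mem_range.2 hv, beq_iff_eq.2 (hfix a v hv hm)⟩
    let R : Finset (Perm (Fin 23)) := Finset.univ.filter (· ∈ f.range)
    have hRc : Nat.card f.range = R.card := by
      rw [Nat.card_eq_fintype_card, ← Fintype.card_subtype]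
    choose σ hσ using fun π : f.range => MonoidHom.mem_range.1 π.2
    let tb : Perm (Fin 23) → ℕ := fun π => if h : π ∈ f.range then τ (σ ⟨π, h⟩) else 0
    have htb : ∀ π ∈ R, IsTab π (tb π) := fun π hπ => by
      have h : π ∈ f.range := (Finset.mem_filter.1 hπ).2
      simp only [tb, dif_pos h]
      have := hτ' (σ ⟨π, h⟩)
      rwa [hσ] at this
    let S : Finset ℕ := (R.erase 1).image tb
    have hS : S.card = R.card - 1 := by
      rw [Finset.card_image_of_injOn, Finset.card_erase_of_mem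
        (Finset.mem_filter.2 ⟨Finset.mem_univ _, one_mem _⟩)]
      intro π hπ ρ hρ e
      exact (htb π (Finset.mem_of_mem_erase hπ)).unique (e ▸ htb ρ (Finset.mem_of_mem_erase hρ))
    have hSinv : ∀ t ∈ S, t ∈ invTabs := by
      intro t ht
      obtain ⟨π, hπ, rfl⟩ := Finset.mem_image.1 ht
      have h : π ∈ f.range := (Finset.mem_filter.1 (Finset.mem_of_mem_erase hπ)).2
      simp only [tb, dif_pos h]
      refine hinv _ ?_
      rw [hσ]
      exact Finset.ne_of_mem_erase hπ
    have hScomm : ∀ s ∈ S, ∀ t ∈ S, tcomm s t = true := by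
      intro s hs t ht
      obtain ⟨π, hπ, rfl⟩ := Finset.mem_image.1 hs
      obtain ⟨ρ, hρ, rfl⟩ := Finset.mem_image.1 ht
      refine tcomm_of_commute ?_ (htb π (Finset.mem_of_mem_erase hπ))
        (htb ρ (Finset.mem_of_mem_erase hρ))
      obtain ⟨x, rfl⟩ := (Finset.mem_filter.1 (Finset.mem_of_mem_erase hπ)).2
      obtain ⟨y, rfl⟩ := (Finset.mem_filter.1 (Finset.mem_of_mem_erase hρ)).2
      exact hfc x y
    have hsmall : S.card < 30 := by
      by_contra hge
      have hsub : S ⊆ (invTabs.filter fun a => decide (30 ≤ (invTabs.filter (tcomm a)).length)).toFinset := by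
        intro s hs
        refine List.mem_toFinset.2 (List.mem_filter.2 ⟨hSinv s hs, decide_eq_true ?_⟩)
        refine (Nat.le_of_not_lt hge).trans (le_trans ?_ (List.toFinset_card_le _))
        exact Finset.card_le_card fun t ht =>
          List.mem_toFinset.2 (List.mem_filter.2 ⟨hSinv t ht, hScomm s hs t ht⟩)
      exact hge (lt_of_le_of_lt ((Finset.card_le_card hsub).trans (List.toFinset_card_le _)) degree_ok)
    rw [hmul, hRc]
    rcases Nat.lt_or_ge S.card 2 with h2 | h2
    · calc R.card * Nat.card f.ker ≤ 2 * 128 := Nat.mul_le_mul (by omega) hka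
        _ < 2 ^ 11 := by norm_num
    · obtain ⟨s, hs, t, ht, hne⟩ := Finset.one_lt_card.1 h2
      obtain ⟨i, hi, rfl⟩ := index_of_mem (hSinv s hs)
      obtain ⟨j, hj, rfl⟩ := index_of_mem (hSinv t ht)
      have hp := forBelow_iff.1 (forBelow_iff.1 pair_ok i hi) j hj
      have hij : i ≠ j := fun e => hne (e ▸ rfl)
      rw [Bool.or_eq_true, Bool.or_eq_true, beq_iff_eq, hScomm _ hs _ ht, decide_eq_true_eq] at hp
      have hlen : ((fixData.getD i []).filter fun v => act (invTabs.getD j 0) v == v).length ≤ 64 := by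
        simpa [hij] using hp
      have hA' : ∀ u ∈ S, ∀ v, v < 2048 → sel basisE v ∈ A → act u v = v := by
        intro u hu v hv hm
        obtain ⟨π, hπ, rfl⟩ := Finset.mem_image.1 hu
        simp only [tb, dif_pos (Finset.mem_filter.1 (Finset.mem_of_mem_erase hπ)).2]
        exact hfix _ v hv hm
      have hk : Nat.card f.ker ≤ 64 := by
        refine (M.card_kernel_le hA _ fun v hv hm => ?_).trans hlen
        rw [List.mem_filter, (fixData_spec hi).1, List.mem_filter]
        exact ⟨⟨List.mem_range.2 hv, beq_iff_eq.2 (hA' _ hs v hv hm)⟩, beq_iff_eq.2 (hA' _ ht v hv hm)⟩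
      calc R.card * Nat.card f.ker ≤ 30 * 64 := Nat.mul_le_mul (by omega) hk
        _ < 2 ^ 11 := by norm_num

theorem factorization_card : (Nat.card setup.Grp).factorization 2 = 18 := by
  rw [M.card, show (4089470473293004800 : ℕ) = 2 ^ 18 * 15600091832325 by norm_num,
    Nat.factorization_mul (by norm_num) (by norm_num), Finsupp.add_apply,
    Nat.Prime.factorization_pow Nat.prime_two, Finsupp.single_eq_same,
    Nat.factorization_eq_zero_of_not_dvd (by norm_num), add_zero]

end Model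

variable {G : Type*} [Group G]

theorem elementary_map {p : ℕ} {A : Subgroup G} (φ : G ≃* G) (h : IsElementaryAbelian p A) :
    IsElementaryAbelian p (A.map φ.toMonoidHom) := by
  refine ⟨⟨⟨?_⟩⟩, ?_⟩
  · rintro ⟨_, a, ha, rfl⟩ ⟨_, b, hb, rfl⟩
    refine Subtype.ext ?_
    show φ a * φ b = φ b * φ a
    rw [← map_mul, ← map_mul,
      show a * b = b * a from congrArg Subtype.val (h.1.is_comm.comm ⟨a, ha⟩ ⟨b, hb⟩)]
  · rintro _ ⟨a, ha, rfl⟩
    show φ a ^ p = 1
    rw [← map_pow, h.2 a ha, map_one]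

theorem normal_map {A T : Subgroup G} (φ : G ≃* G) (hAT : A ≤ T) (h : (A.subgroupOf T).Normal) :
    ((A.map φ.toMonoidHom).subgroupOf (T.map φ.toMonoidHom)).Normal := by
  refine ⟨fun n hn g => ?_⟩
  obtain ⟨a, ha, ea⟩ := Subgroup.mem_subgroupOf.1 hn
  obtain ⟨t, ht, et⟩ := g.2
  refine Subgroup.mem_subgroupOf.2 ⟨t * a * t⁻¹, ?_, ?_⟩
  · exact Subgroup.mem_subgroupOf.1 (h.conj_mem ⟨a, hAT ha⟩ ha ⟨t, ht⟩)
  · simp only [Subgroup.coe_mul, Subgroup.coe_inv, ← ea, ← et, map_mul, map_inv]

theorem card_map (φ : G ≃* G) (A : Subgroup G) :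
    Nat.card ↥(A.map φ.toMonoidHom) = Nat.card A :=
  (Nat.card_congr (φ.subgroupMap A).toEquiv).symm

/-- The result, for the presented group. -/
theorem sylow_two_elementary (T : Sylow 2 setup.Grp) :
    (∀ A : Subgroup setup.Grp, A ≤ T → (A.subgroupOf T).Normal → IsElementaryAbelian 2 A →
        Nat.card A ≤ 2 ^ 11) ∧
    ∃! A : Subgroup setup.Grp, A ≤ T ∧ (A.subgroupOf T).Normal ∧ IsElementaryAbelian 2 A ∧
        Nat.card A = 2 ^ 11 := by
  haveI := finite_grp
  haveI : Fact (Nat.Prime 2) := ⟨Nat.prime_two⟩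
  obtain ⟨M⟩ := exists_model
  let P : Sylow 2 setup.Grp :=
    Sylow.ofCard TSub (by rw [M.factorization_card, M.card_T_and_perms.1])
  obtain ⟨c, rfl⟩ := MulAction.exists_smul_eq setup.Grp P T
  set φ : setup.Grp ≃* setup.Grp := MulAut.conj c
  have hT : ((c • P : Sylow 2 setup.Grp) : Subgroup setup.Grp) = TSub.map φ.toMonoidHom := rfl
  rw [hT]
  have hback : ∀ A : Subgroup setup.Grp, A ≤ TSub.map φ.toMonoidHom →
      A.map φ.symm.toMonoidHom ≤ TSub := by
    rintro A hA _ ⟨a, ha, rfl⟩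
    obtain ⟨t, ht, rfl⟩ := hA ha
    show φ.symm (φ t) ∈ TSub
    rwa [MulEquiv.symm_apply_apply]
  refine ⟨fun A hA _ he => ?_, M.E.map φ.toMonoidHom, ⟨Subgroup.map_mono M.E_le,
    normal_map φ M.E_le M.E_normal, elementary_map φ M.E_elementary, ?_⟩, ?_⟩
  · rw [← card_map φ.symm A]
    exact (M.card_le (hback A hA) (elementary_map φ.symm he)).1
  · rw [card_map, M.card_E]; norm_num
  · rintro A ⟨hA, -, he, hc⟩
    have h := (M.card_le (hback A hA) (elementary_map φ.symm he)).2 (by rw [card_map, hc])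
    rw [← h, Subgroup.map_map]
    ext x
    simp

end CfsgLib.Fi23Sylow
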