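import Cfsg.Agent.CosetEnum.Fi23Simple.Final
import Cfsg.Agent.CosetEnum.Fi23Order.Transpositions

/-!
# The transpositions of the presented Fischer group Fi23 as points

A word `w` stands for the conjugate of the central involution `z` of the point stabiliser by the
value of `w`; it depends only on the point `walk w 0`.  An element fixing the ten points of the
letters centralises the generators, so it is trivial.
-/

set_option autoImplicit false
set_option maxRecDepth 100000
set_option exponentiation.threshold 200000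

namespace CfsgLib.Fi23Sylow

open CfsgLib.CosetEnum CfsgLib.CosetEnum.Fi23

/-- The word of the central involution of the point stabiliser. -/
def zW : List ℕ := zWord.map lm

/-- The coset walk. -/
noncomputable abbrev wk (w : List ℕ) (i : ℕ) : ℕ := walk Fi23H.enum.tb w i

/-- The value of a word. -/
noncomputable abbrev el (w : List ℕ) : setup.Grp := prodw setup.g w

/-- The transposition of a word. -/
noncomputable def tr (w : List ℕ) : setup.Grp := (el w)⁻¹ * el zW * el w

/-- All letters are genuine. -/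
def okW (w : List ℕ) : Bool := w.all fun x => decide (x < 10)

theorem okW_iff {w : List ℕ} : okW w = true ↔ ∀ x ∈ w, x < setup.k := by
  simp [okW, setup]

theorem okW_append {u v : List ℕ} : okW (u ++ v) = (okW u && okW v) := List.all_append ..

theorem el_append (u v : List ℕ) : el (u ++ v) = el u * el v := prodw_append ..

theorem el_reverse (w : List ℕ) : el w.reverse = (el w)⁻¹ := by
  induction w with
  | nil => simp [el, prodw]
  | cons x w ih =>
    rw [List.reverse_cons, el_append, ih, show el (x :: w) = el [x] * el w from el_append [x] w,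
      mul_inv_rev]
    congr 1
    simp only [el, prodw, List.map_cons, List.map_nil, List.prod_cons, List.prod_nil, mul_one]
    exact (inv_eq_of_mul_eq_one_right (setup.of_sq _)).symm

theorem el_singleton (x : ℕ) : el [x] = setup.g x := by simp [el, prodw]

theorem tr_append (w v : List ℕ) : tr (w ++ v) = (el v)⁻¹ * tr w * el v := by
  simp only [tr, el_append]; group

/-- The action of the group on the 31671 points, with what is used of it. -/
structure Model where
  φ : setup.Grp →* Equiv.Perm (Fin Fi23H.enum.n)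
  e : setup.Grp ⧸ Fi23H.enum.H ≃ Fin Fi23H.enum.n
  hφ : ∀ (w : List ℕ), (∀ x ∈ w, x < setup.k) → ∀ i : Fin Fi23H.enum.n,
    ((φ (el w))⁻¹ i).val = wk w i
  he : ∀ (y : setup.Grp) (q : setup.Grp ⧸ Fi23H.enum.H), e (y • q) = φ y (e q)
  he0 : e ((1 : setup.Grp) : setup.Grp ⧸ Fi23H.enum.H) = 0
  inj : Function.Injective φ
  comm : ∀ u ∈ Fi23H.enum.H, u * el zW = el zW * u
  sq : el zW * el zW = 1
  card : Nat.card setup.Grp = 4089470473293004800

theorem exists_model : Nonempty Model := by
  haveI := finite_grp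
  obtain ⟨φ, e, hφ, he, he0, hinj, hG, hH, ψ, hsurj, hk2, hker⟩ := order_and_action
  have hzH : el zW ∈ Fi23H.enum.H := prodw_mem zWord zWord_lt
  obtain ⟨⟨w, hw⟩, hw1, -⟩ := (Nat.card_eq_two_iff' (1 : ψ.ker)).mp hk2
  have hwz : (w : setup.Grp) = el zW := (hker w hw).resolve_left fun h => hw1 (Subtype.ext h)
  have hcomm : ∀ u ∈ Fi23H.enum.H, u * el zW = el zW * u := by
    intro u hu
    have hc : (⟨u, hu⟩ : Fi23H.enum.H) * w * (⟨u, hu⟩ : Fi23H.enum.H)⁻¹ ∈ ψ.ker :=
      (MonoidHom.normal_ker ψ).conj_mem w hw _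
    rcases hker _ hc with h | h
    · rw [mul_inv_eq_one, mul_eq_left] at h
      exact absurd (Subtype.ext h) hw1
    · exact mul_inv_eq_iff_eq_mul.mp (by simpa [hwz, el, zW] using h)
  have hzz : el zW * el zW = 1 := by
    have h : (⟨w, hw⟩ : ψ.ker) ^ 2 = 1 := by rw [← hk2]; exact pow_card_eq_one'
    have h' := congrArg (fun v : ψ.ker => ((v : Fi23H.enum.H) : setup.Grp)) h
    simpa [pow_two, hwz] using h'
  exact ⟨⟨φ, e, hφ, he, he0, hinj, hcomm, hzz, hG⟩⟩

theorem el10_eq : Fi23H.el10 = el zW := by
  have h : zW = (List.replicate 9 [1, 2, 3, 4, 5, 6, 8]).flatten := by decide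
  rw [el, h, prodw_replicate]
  simp only [Fi23H.el10, Fi23H.el9, Fi23H.el8, Fi23H.el7, Fi23H.el6, Fi23H.el5,
    Fi23H.el4, Fi23H.el3, Fi23H.el2, Fi23H.el1, prodw, List.map_cons, List.map_nil, List.prod_cons,
    List.prod_nil, mul_one, pow_succ, pow_zero, one_mul, mul_assoc]

/-- Check that `z g7 z` and `g7 z g7` have one table. -/
def braidEntry (i : ℕ) : Bool :=
  bif Nat.blt i 31671 then
    Nat.beq (ext Fi23H.w10 (ext Fi23H.t7 (ext Fi23H.w10 i))) (ext Fi23H.w12 i)
  else true

theorem braid_table : allR braidEntry 15 0 = true := by decide +kernel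

/-- Words carrying `z` to the letters. -/
def letterWord : ℕ → List ℕ
  | 7 => 7 :: zW
  | 6 => 7 :: zW ++ [6, 7]
  | 5 => 7 :: zW ++ [6, 7] ++ [5, 6]
  | 4 => 7 :: zW ++ [6, 7] ++ [5, 6] ++ [4, 5]
  | 3 => 7 :: zW ++ [6, 7] ++ [5, 6] ++ [4, 5] ++ [3, 4]
  | 2 => 7 :: zW ++ [6, 7] ++ [5, 6] ++ [4, 5] ++ [3, 4] ++ [2, 3]
  | 1 => 7 :: zW ++ [6, 7] ++ [5, 6] ++ [4, 5] ++ [3, 4] ++ [2, 3] ++ [1, 2]
  | 0 => 7 :: zW ++ [6, 7] ++ [5, 6] ++ [4, 5] ++ [3, 4] ++ [2, 3] ++ [1, 2] ++ [0, 1]
  | 8 => 7 :: zW ++ [6, 7] ++ [5, 6] ++ [4, 5] ++ [3, 4] ++ [8, 3]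
  | _ => 7 :: zW ++ [6, 7] ++ [5, 6] ++ [4, 5] ++ [3, 4] ++ [8, 3] ++ [9, 8]

theorem letterWord_ok : ∀ x < 10, okW (letterWord x) = true := by decide +kernel

theorem adjacent_words : [(6, 7), (5, 6), (4, 5), (3, 4), (2, 3), (1, 2), (0, 1), (3, 8), (8, 9)].all
    (fun p => decide ([p.1, p.2, p.1, p.2, p.1, p.2] ∈ words)) = true := by decide +kernel

namespace Model

variable (M : Model)
include M

theorem phi_el {w : List ℕ} (hw : okW w = true) (i : Fin Fi23H.enum.n) :
    ((M.φ (el w))⁻¹ i).val = wk w i := M.hφ w (okW_iff.1 hw) i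

theorem tr_eq {u v : List ℕ} (hu : okW u = true) (hv : okW v = true) (h : wk u 0 = wk v 0) :
    tr u = tr v := by
  have h1 : (((el u)⁻¹ : setup.Grp) : setup.Grp ⧸ Fi23H.enum.H) =
      (((el v)⁻¹ : setup.Grp) : setup.Grp ⧸ Fi23H.enum.H) := by
    refine M.e.injective ?_
    have key : ∀ y : setup.Grp, M.e ((y : setup.Grp) : setup.Grp ⧸ Fi23H.enum.H) = M.φ y 0 := fun y => by
      rw [← M.he0, ← M.he, MulAction.Quotient.smul_coe, smul_eq_mul, mul_one]
    rw [key, key, map_inv, map_inv]
    refine Fin.ext ?_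
    rw [M.phi_el hu, M.phi_el hv]
    exact h
  have h2 := M.comm _ (QuotientGroup.eq.1 h1)
  rw [inv_inv] at h2
  calc tr u = (el v)⁻¹ * ((el u * (el v)⁻¹)⁻¹ * (el zW * (el u * (el v)⁻¹))) * el v := by
        simp only [tr]; group
    _ = tr v := by rw [← h2]; simp only [tr]; group

theorem sq_tr (w : List ℕ) : tr w * tr w = 1 := by
  rw [show tr w * tr w = (el w)⁻¹ * (el zW * el zW) * el w by simp only [tr]; group, M.sq]
  group

theorem img12 : ∀ i : Fin Fi23H.enum.n,
    ((M.φ (setup.g 7 * el zW * setup.g 7))⁻¹ i).val = ext Fi23H.w12 i := fun i => by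
  have h := Fi23H.img12 M.φ M.hφ i
  rw [show Fi23H.el12 = setup.g 7 * Fi23H.el10 * setup.g 7 from rfl, el10_eq] at h
  exact h

theorem z_braid : el zW * setup.g 7 * el zW = setup.g 7 * el zW * setup.g 7 := by
  refine M.inj (inv_inj.1 (Equiv.ext fun i => Fin.ext ?_))
  have hz : ∀ j : Fin Fi23H.enum.n, ((M.φ (el zW))⁻¹ j).val = ext Fi23H.w10 j := fun j => by
    have h := Fi23H.img10 M.φ M.hφ j
    rwa [el10_eq] at h
  rw [M.img12 i, map_mul, map_mul, mul_inv_rev, mul_inv_rev, Equiv.Perm.mul_apply,
    Equiv.Perm.mul_apply, hz, Fi23H.img_letter M.φ M.hφ 7 (by norm_num), hz]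
  have h := allR_spec 15 0 braid_table i.val (Nat.zero_le _) (by
    have : i.val < 31671 := i.2
    omega)
  unfold braidEntry at h
  rw [show Nat.blt i.val 31671 = true from Nat.ble_eq_true_of_le (show i.val + 1 ≤ 31671 from i.2)] at h
  exact Nat.eq_of_beq_eq_true h

theorem g_seven : setup.g 7 = tr (7 :: zW) := by
  have h7 : setup.g 7 * setup.g 7 = 1 := setup.of_sq _
  rw [tr, show el (7 :: zW) = setup.g 7 * el zW by rw [← el_singleton, ← el_append]; rfl,
    mul_inv_rev, inv_eq_of_mul_eq_one_right h7, inv_eq_of_mul_eq_one_right M.sq]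
  calc setup.g 7 = setup.g 7 * (el zW * el zW) := by rw [M.sq, mul_one]
    _ = setup.g 7 * el zW * 1 * el zW := by group
    _ = el zW * setup.g 7 * el zW * (setup.g 7 * el zW) := by
        rw [M.z_braid, ← h7]; group
    _ = el zW * setup.g 7 * el zW * (setup.g 7 * el zW) := rfl

theorem g_step {x y : ℕ} (h : [x, y, x, y, x, y] ∈ words ∨ [y, x, y, x, y, x] ∈ words)
    {w : List ℕ} (hy : setup.g y = tr w) : setup.g x = tr (w ++ [x, y]) := by
  have hx2 : setup.g x * setup.g x = 1 := setup.of_sq _
  have hy2 : setup.g y * setup.g y = 1 := setup.of_sq _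
  have hb : setup.g x * setup.g y * setup.g x = setup.g y * setup.g x * setup.g y := by
    have hxi : (setup.g x)⁻¹ = setup.g x := inv_eq_of_mul_eq_one_right hx2
    have hyi : (setup.g y)⁻¹ = setup.g y := inv_eq_of_mul_eq_one_right hy2
    rcases h with h | h
    · have h6 := setup.prod_mem _ h
      simp only [prodw, List.map_cons, List.map_nil, List.prod_cons, List.prod_nil, mul_one] at h6
      have h6' : setup.g x * setup.g y * setup.g x * (setup.g y * setup.g x * setup.g y) = 1 := by
        rw [← h6]; group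
      rw [eq_inv_of_mul_eq_one_left h6', mul_inv_rev, mul_inv_rev, hxi, hyi]
      group
    · have h6 := setup.prod_mem _ h
      simp only [prodw, List.map_cons, List.map_nil, List.prod_cons, List.prod_nil, mul_one] at h6
      have h6' : setup.g y * setup.g x * setup.g y * (setup.g x * setup.g y * setup.g x) = 1 := by
        rw [← h6]; group
      rw [eq_inv_of_mul_eq_one_right h6', mul_inv_rev, mul_inv_rev, hxi, hyi]
      group
  rw [tr_append, ← hy, show el [x, y] = setup.g x * setup.g y by simp [el, prodw], mul_inv_rev,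
    inv_eq_of_mul_eq_one_right hx2, inv_eq_of_mul_eq_one_right hy2]
  calc setup.g x = setup.g y * (setup.g y * setup.g x * setup.g y) * setup.g y := by
        rw [show setup.g y * (setup.g y * setup.g x * setup.g y) * setup.g y =
          setup.g y * setup.g y * setup.g x * (setup.g y * setup.g y) by group, hy2, one_mul, mul_one]
    _ = setup.g y * (setup.g x * setup.g y * setup.g x) * setup.g y := by rw [hb]
    _ = setup.g y * setup.g x * setup.g y * (setup.g x * setup.g y) := by group

theorem g_letter : ∀ x < 10, setup.g x = tr (letterWord x) := by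
  have hw := adjacent_words
  simp only [List.all_cons, List.all_nil, Bool.and_true, Bool.and_eq_true, decide_eq_true_eq] at hw
  obtain ⟨w67, w56, w45, w34, w23, w12, w01, w38, w89⟩ := hw
  have e6 := M.g_step (Or.inl w67) M.g_seven
  have e5 := M.g_step (Or.inl w56) e6
  have e4 := M.g_step (Or.inl w45) e5
  have e3 := M.g_step (Or.inl w34) e4
  have e2 := M.g_step (Or.inl w23) e3
  have e1 := M.g_step (Or.inl w12) e2
  have e0 := M.g_step (Or.inl w01) e1
  have e8 := M.g_step (Or.inr w38) e3
  have e9 := M.g_step (Or.inr w89) e8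
  intro x hx
  interval_cases x
  exacts [e0, e1, e2, e3, e4, e5, e6, M.g_seven, e8, e9]

/-- An element fixing the points of the ten letters is trivial. -/
theorem eq_one {v : List ℕ} (hv : okW v = true)
    (h : ∀ x < 10, wk v (wk (letterWord x) 0) = wk (letterWord x) 0) : el v = 1 := by
  haveI := finite_grp
  haveI : IsSimpleGroup setup.Grp := isSimpleGroup_Fi23
  have hwalk : ∀ (u u' : List ℕ) (i : ℕ), wk (u ++ u') i = wk u' (wk u i) := by
    intro u u' i
    induction u generalizing i with
    | nil => rfl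
    | cons a u ih => exact ih (T Fi23H.enum.tb a i)
  have hc : ∀ x < 10, setup.g x * el v = el v * setup.g x := by
    intro x hx
    have e : tr (letterWord x ++ v) = tr (letterWord x) :=
      M.tr_eq (by rw [okW_append, letterWord_ok x hx, hv]; rfl) (letterWord_ok x hx)
        (by rw [hwalk, h x hx])
    rw [tr_append, ← M.g_letter x hx] at e
    calc setup.g x * el v = el v * ((el v)⁻¹ * setup.g x * el v) := by group
      _ = el v * setup.g x := by rw [e]
  have hz : el v ∈ Subgroup.center setup.Grp := by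
    rw [Subgroup.mem_center_iff]
    intro y
    have hy : y ∈ setup.letSub (List.range 10) :=
      (setup.letSub_all (List.range 10) fun x hx => List.mem_range.2 hx).symm ▸ Subgroup.mem_top y
    refine Subgroup.closure_induction (p := fun y _ => y * el v = el v * y) ?_ (by simp) ?_ ?_ hy
    · rintro _ ⟨x, hx, rfl⟩
      exact hc x (List.mem_range.1 hx)
    · intro a b _ _ ha hb
      rw [mul_assoc, hb, ← mul_assoc, ha, mul_assoc]
    · intro a _ ha
      calc a⁻¹ * el v = a⁻¹ * (el v * a) * a⁻¹ := by group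
        _ = el v * a⁻¹ := by rw [← ha]; group
  by_contra hne
  rcases IsSimpleGroup.eq_bot_or_eq_top_of_normal (Subgroup.center setup.Grp) inferInstance with hb | ht
  · exact hne (Subgroup.mem_bot.1 (hb ▸ hz))
  · have hp : (Nat.card setup.Grp).Prime := by
      letI : CommGroup setup.Grp :=
        { (inferInstance : Group setup.Grp) with
          mul_comm := fun a b => by
            have hb : b ∈ Subgroup.center setup.Grp := ht.symm ▸ Subgroup.mem_top b
            exact Subgroup.mem_center_iff.1 hb a }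
      exact IsSimpleGroup.prime_card
    rw [M.card] at hp
    exact absurd (hp.even_iff.1 (by decide +kernel)) (by norm_num)

/-- Two words agreeing on the ten points have one value. -/
theorem el_eq {u v : List ℕ} (hu : okW u = true) (hv : okW v = true)
    (h : ∀ x < 10, wk (u ++ v.reverse) (wk (letterWord x) 0) = wk (letterWord x) 0) : el u = el v := by
  have := M.eq_one (v := u ++ v.reverse)
    (by rw [okW_append, hu]; simpa [okW] using hv) h
  rwa [el_append, el_reverse, mul_inv_eq_one] at this

end Model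

end CfsgLib.Fi23Sylow
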