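import Cfsg.Agent.Fi23Sylow.Checks

/-!
# A subgroup of order `2 ^ 18` and its elementary abelian subgroups
-/

set_option autoImplicit false
set_option maxRecDepth 100000

namespace CfsgLib.Fi23Sylow

open Equiv (Perm)
open CfsgLib.CosetEnum CfsgLib.CosetEnum.Fi23
open CfsgLib.GraphPerm (tget IsTab InTab forBelow forBelow_iff inTab_slp exists_isTab slpTabs)

theorem el_wordSel : ∀ (W : List (List ℕ)) (v : ℕ), el (wordSel W v) = sel (W.map el) v
  | [], _ => by simp [wordSel, sel, el, prodw]
  | t :: ts, v => by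
    rw [wordSel, List.map_cons, sel, el_append, el_wordSel ts]
    by_cases h : v.testBit 0 = true <;> simp [h, el, prodw]

theorem okW_wordSel : ∀ (W : List (List ℕ)) (v : ℕ), W.all okW = true → okW (wordSel W v) = true
  | [], _, _ => rfl
  | t :: ts, v, h => by
    simp only [List.all_cons, Bool.and_eq_true] at h
    rw [wordSel, okW_append, okW_wordSel ts _ h.2]
    by_cases hv : v.testBit 0 = true
    · rw [if_pos hv, h.1]; rfl
    · rw [if_neg hv]; rfl

theorem sel_mem {G : Type*} [Group G] {S : Subgroup G} : ∀ (ts : List G) (v : ℕ),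
    (∀ i, v.testBit i = true → ts.getD i 1 ∈ S) → sel ts v ∈ S
  | [], _, _ => one_mem S
  | t :: ts, v, h => by
    refine mul_mem ?_ (sel_mem ts _ fun i hi => ?_)
    · split
      · rename_i h0; simpa using h 0 h0
      · exact one_mem S
    · have := h (i + 1) (by rwa [Nat.testBit_succ])
      simpa using this

theorem sel_zero {G : Type*} [Group G] : ∀ ts : List G, sel ts 0 = 1
  | [] => rfl
  | t :: ts => by simp [sel, sel_zero ts]

/-- A transposition of the list. -/
noncomputable def tE (k : Fin 23) : setup.Grp := el (tWord k)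

/-- The basis. -/
noncomputable def basisE : List setup.Grp := basisW.map el

theorem words_facts (k : ℕ) (hk : k < 23) :
    okW (tWord k) = true ∧ okW (bWord k) = true ∧ tX k < 10 := by
  have h := forBelow_iff.1 words_ok.1 k hk
  simpa [and_assoc] using h

theorem walk_append (u v : List ℕ) (i : ℕ) : wk (u ++ v) i = wk v (wk u i) := by
  induction u generalizing i with
  | nil => rfl
  | cons a u ih => exact ih (T Fi23H.enum.tb a i)

theorem mem_basisE {t : setup.Grp} (ht : t ∈ basisE) : ∃ k : Fin 23, t = tE k := by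
  simp only [basisE, basisW, List.map_map, List.mem_map] at ht
  obtain ⟨j, hj, rfl⟩ := ht
  exact ⟨⟨j, of_decide_eq_true (List.all_eq_true.1 words_ok.2.2.2.1 j hj)⟩, rfl⟩

theorem coord_lt (k : ℕ) : coord.getD k 0 < 2048 := by
  rcases Nat.lt_or_ge k coord.length with h | h
  · rw [List.getD_eq_getElem _ _ h]
    exact of_decide_eq_true (List.all_eq_true.1 words_ok.2.2.2.2.2.2.2 _ (List.getElem_mem h))
  · rw [List.getD_eq_default _ _ h]; norm_num

/-- The generators. -/
noncomputable def gen (i : ℕ) : setup.Grp :=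
  if i < 11 then basisE.getD i 1 else (qWords.map el).getD (i - 11) 1

/-- The Sylow subgroup. -/
noncomputable def TSub : Subgroup setup.Grp := prefixGrp gen 18

theorem basisE_len : basisE.length = 11 := by
  simp [basisE, basisW, words_ok.2.2.2.2.1]

theorem gen_low {i : ℕ} (hi : i < 11) : ∃ k : Fin 23, gen i = tE k := by
  have hb := basisE_len
  rw [gen, if_pos hi, List.getD_eq_getElem _ _ (by omega)]
  exact mem_basisE (List.getElem_mem _)

theorem qWord_facts {i : ℕ} (hi : i < 7) :
    gen (11 + i) = el (qWords.getD i []) ∧ okW (qWords.getD i []) = true := by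
  have hl := words_ok.2.2.2.2.2.1
  constructor
  · rw [gen, if_neg (by omega), Nat.add_sub_cancel_left, List.getD_eq_getElem _ _ (by simp; omega),
      List.getElem_map, List.getD_eq_getElem _ _ (by omega)]
  · rw [List.getD_eq_getElem _ _ (by omega)]
    exact List.all_eq_true.1 words_ok.2.1 _ (List.getElem_mem _)

theorem sel_basis_mem_prefix (v : ℕ) {m : ℕ} (hm : 11 ≤ m) : sel basisE v ∈ prefixGrp gen m := by
  refine sel_mem _ _ fun i _ => ?_
  rcases Nat.lt_or_ge i 11 with h | h
  · have := mem_prefixGrp gen (i := i) (m := m) (Nat.lt_of_lt_of_le h hm)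
    rwa [gen, if_pos h] at this
  · rw [List.getD_eq_default _ _ (by rw [basisE_len]; exact h)]
    exact one_mem _

/-- Elements with their permutations of the transpositions. -/
noncomputable def pairs : Subgroup (setup.Grp × Perm (Fin 23)) where
  carrier := {p | p.1 ∈ TSub ∧ ∀ k, p.1 * tE k * p.1⁻¹ = tE (p.2 k)}
  one_mem' := ⟨one_mem _, by simp⟩
  mul_mem' {a b} ha hb := ⟨mul_mem ha.1 hb.1, fun k => by
    rw [show (a * b).1 * tE k * (a * b).1⁻¹ = a.1 * (b.1 * tE k * b.1⁻¹) * a.1⁻¹ by
      simp [mul_assoc], hb.2, ha.2]; rfl⟩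
  inv_mem' {a} ha := ⟨inv_mem ha.1, fun k => by
    have h := ha.2 (a.2⁻¹ k)
    rw [Equiv.Perm.coe_inv, Equiv.apply_symm_apply] at h
    rw [← h]
    simp [mul_assoc]⟩

/-- The projection to the group. -/
noncomputable def fstHom : pairs →* TSub :=
  ((MonoidHom.fst _ _).comp pairs.subtype).codRestrict _ fun p => p.2.1

namespace Model

variable (M : Model)
include M

theorem el_of_key {u v : List ℕ} (hu : okW u = true) (hv : okW v = true)
    (h : keyEq u v = true) : el u = el v := by
  refine M.el_eq hu hv fun x hx => ?_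
  simp only [keyEq, List.all_eq_true, Nat.beq_eq] at h
  exact h _ (List.mem_map.2 ⟨x, List.mem_range.2 hx, rfl⟩)

theorem tE_eq (k : Fin 23) : tE k = tr (bWord k) := by
  rw [tE, bWord, tr_append, ← M.g_letter _ (words_facts k k.2).2.2, tWord, el_append, el_append,
    el_reverse, el_singleton, mul_assoc]

theorem tE_sq (k : Fin 23) : tE k * tE k = 1 := by rw [M.tE_eq]; exact M.sq_tr _

theorem tE_comm (k l : Fin 23) : Commute (tE k) (tE l) := by
  have h := forBelow_iff.1 (forBelow_iff.1 commute_ok k k.2) l l.2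
  have e : tr (bWord l ++ tWord k) = tr (bWord l) :=
    M.tr_eq (by rw [okW_append, (words_facts l l.2).2.1, (words_facts k k.2).1]; rfl)
      (words_facts l l.2).2.1 (by rw [walk_append]; exact Nat.eq_of_beq_eq_true h)
  rw [tr_append, ← M.tE_eq] at e
  exact (commute_iff_eq _ _).2 (by
    have e' := congrArg (fun y => el (tWord k) * y) e
    simp only [← mul_assoc, mul_inv_cancel, one_mul] at e'
    exact e'.symm)

theorem sel_basis_mul (v w : ℕ) : sel basisE v * sel basisE w = sel basisE (v ^^^ w) := by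
  refine sel_mul (fun t ht => ?_) (fun t ht u hu => ?_) v w
  · obtain ⟨k, rfl⟩ := mem_basisE ht; exact M.tE_sq k
  · obtain ⟨k, rfl⟩ := mem_basisE ht; obtain ⟨l, rfl⟩ := mem_basisE hu; exact M.tE_comm k l

theorem tE_coord (k : Fin 23) : tE k = sel basisE (coord.getD k 0) := by
  rw [tE, basisE, ← el_wordSel]
  exact M.el_of_key (words_facts k k.2).1 (okW_wordSel _ _ words_ok.2.2.1)
    (forBelow_iff.1 coord_ok.1 k k.2)

/-- The group generated by the transpositions. -/
noncomputable def E : Subgroup setup.Grp where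
  carrier := {x | ∃ v < 2048, x = sel basisE v}
  one_mem' := ⟨0, by norm_num, (sel_zero _).symm⟩
  mul_mem' := by
    rintro _ _ ⟨v, hv, rfl⟩ ⟨w, hw, rfl⟩
    exact ⟨v ^^^ w, Nat.xor_lt_two_pow (n := 11) hv hw, M.sel_basis_mul v w⟩
  inv_mem' := by
    rintro _ ⟨v, hv, rfl⟩
    exact ⟨v, hv, inv_eq_of_mul_eq_one_right (by rw [M.sel_basis_mul, Nat.xor_self, sel_zero])⟩

theorem tE_mem (k : Fin 23) : tE k ∈ M.E := ⟨_, coord_lt k, M.tE_coord k⟩

theorem sel_inj {v w : ℕ} (hv : v < 2048) (hw : w < 2048) (h : sel basisE v = sel basisE w) :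
    v = w := by
  have h1 : sel basisE (v ^^^ w) = 1 := by
    rw [← M.sel_basis_mul, h, M.sel_basis_mul, Nat.xor_self, sel_zero]
  have hlt : v ^^^ w < 2048 := Nat.xor_lt_two_pow (n := 11) hv hw
  by_contra hne
  have h2 := forBelow_iff.1 indep_ok _ hlt
  rw [Bool.or_eq_true, Nat.beq_eq] at h2
  rcases h2 with h2 | h2
  · exact hne (Nat.xor_eq_zero_iff.mp h2)
  · obtain ⟨p, hp, hmv⟩ := List.any_eq_true.1 h2
    obtain ⟨x, hx, rfl⟩ := List.mem_map.1 hp
    have hokv := okW_wordSel basisW (v ^^^ w) words_ok.2.2.1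
    have hokl := letterWord_ok x (List.mem_range.1 hx)
    have hlt' : wk (letterWord x) 0 < Fi23H.enum.n :=
      lt_of_eq_of_lt (M.phi_el hokl 0).symm (Fin.isLt _)
    have e := M.phi_el hokv ⟨_, hlt'⟩
    rw [el_wordSel, show basisW.map el = basisE from rfl, h1, map_one, inv_one,
      Equiv.Perm.one_apply] at e
    have e' : wk (wordSel basisW (v ^^^ w)) (wk (letterWord x) 0) = wk (letterWord x) 0 := e.symm
    rw [e'] at hmv
    simp at hmv

theorem card_E : Nat.card M.E = 2048 := by
  refine Nat.card_eq_of_equiv_fin (Equiv.ofBijective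
    (fun v : Fin 2048 => (⟨sel basisE v.1, v.1, v.2, rfl⟩ : M.E)) ⟨?_, ?_⟩).symm
  · intro v w e
    exact Fin.ext (M.sel_inj v.2 w.2 (congrArg Subtype.val e))
  · rintro ⟨_, v, hv, rfl⟩
    exact ⟨⟨v, hv⟩, rfl⟩

theorem gen_sq {i : ℕ} (hi : i < 18) : gen i * gen i = 1 := by
  rcases Nat.lt_or_ge i 11 with h | h
  · obtain ⟨k, hk⟩ := gen_low h
    rw [hk]; exact M.tE_sq k
  · obtain ⟨j, rfl⟩ := Nat.exists_eq_add_of_le h
    have hj : j < 7 := by omega
    obtain ⟨e, hok⟩ := qWord_facts hj
    rw [e, ← el_append]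
    refine (M.el_of_key (v := []) (by rw [okW_append, hok]; rfl) rfl ?_).trans (by simp [el, prodw])
    have hl := words_ok.2.2.2.2.2.1
    rw [List.getD_eq_getElem _ _ (by omega)]
    exact List.all_eq_true.1 qsq_ok _ (List.getElem_mem _)

theorem q_conj {i : ℕ} (hi : i < 7) (k : Fin 23) :
    ∃ l : Fin 23, l.val = tget (qTabs.getD i 0) k ∧ gen (11 + i) * tE k * gen (11 + i) = tE l := by
  obtain ⟨e, hok⟩ := qWord_facts hi
  have h := forBelow_iff.1 (forBelow_iff.1 qconj_ok i hi) k k.2
  rw [Bool.and_eq_true, decide_eq_true_eq] at h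
  refine ⟨⟨_, h.1⟩, rfl, ?_⟩
  have hinv : (gen (11 + i))⁻¹ = gen (11 + i) :=
    inv_eq_of_mul_eq_one_right (M.gen_sq (by omega))
  have et : tr (bWord k ++ qWords.getD i []) = tr (bWord (tget (qTabs.getD i 0) k)) :=
    M.tr_eq (by rw [okW_append, (words_facts k k.2).2.1, hok]; rfl) (words_facts _ h.1).2.1
      (by rw [walk_append]; exact Nat.eq_of_beq_eq_true h.2)
  rw [tr_append, ← e, hinv, ← M.tE_eq] at et
  rw [et, M.tE_eq]

theorem gen_conj {i : ℕ} (hi : i < 18) {j : ℕ} (hj : j < i) :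
    gen i * gen j * gen i ∈ prefixGrp gen i := by
  rcases Nat.lt_or_ge i 11 with h | h
  · obtain ⟨k, hk⟩ := gen_low h
    obtain ⟨l, hl⟩ := gen_low (hj.trans h)
    rw [hk, hl, (M.tE_comm k l).eq, mul_assoc, M.tE_sq, mul_one, ← hl]
    exact mem_prefixGrp gen hj
  · obtain ⟨a, rfl⟩ := Nat.exists_eq_add_of_le h
    have ha : a < 7 := by omega
    rcases Nat.lt_or_ge j 11 with h' | h'
    · obtain ⟨k, hk⟩ := gen_low h'
      obtain ⟨l, -, hl⟩ := M.q_conj ha k
      rw [hk, hl, M.tE_coord]
      exact sel_basis_mem_prefix _ h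
    · obtain ⟨b, rfl⟩ := Nat.exists_eq_add_of_le h'
      have hb : b < a := by omega
      obtain ⟨ea, hoa⟩ := qWord_facts ha
      obtain ⟨eb, hob⟩ := qWord_facts (hb.trans ha)
      have hr := forBelow_iff.1 (forBelow_iff.1 qrel_ok a ha) b hb
      simp only [Bool.and_eq_true, decide_eq_true_eq] at hr
      rw [ea, eb, ← el_append, ← el_append,
        M.el_of_key (by rw [okW_append, okW_append, hoa, hob]; rfl)
          (by rw [okW_append, okW_wordSel _ _ words_ok.2.2.1, okW_wordSel _ _ words_ok.2.1]; rfl)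
          hr.2, el_append, el_wordSel, el_wordSel]
      refine mul_mem (sel_basis_mem_prefix _ h) (sel_mem _ _ fun c hc => ?_)
      have hca : c < a := by
        by_contra hge
        have := Nat.testBit_lt_two_pow (lt_of_lt_of_le hr.1.2
          (Nat.pow_le_pow_right two_pos (Nat.le_of_not_lt hge)))
        rw [this] at hc
        exact Bool.false_ne_true hc
      have := mem_prefixGrp gen (i := 11 + c) (m := 11 + a) (by omega)
      rwa [gen, if_neg (by omega), Nat.add_sub_cancel_left] at this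

theorem E_le : M.E ≤ TSub := by
  rintro _ ⟨v, -, rfl⟩
  exact sel_basis_mem_prefix v (by norm_num)

theorem tE_inj {k l : Fin 23} (h : tE k = tE l) : k = l := by
  rw [M.tE_coord k, M.tE_coord l] at h
  exact Fin.ext (List.inj_on_of_nodup_map (GraphPerm.nodup_of_noDup coord_ok.2)
    (List.mem_range.2 k.2) (List.mem_range.2 l.2) (M.sel_inj (coord_lt k) (coord_lt l) h))

theorem tE_mem_pairs (k : Fin 23) : ((tE k, (1 : Perm (Fin 23))) : setup.Grp × Perm (Fin 23)) ∈ pairs :=
  ⟨M.E_le (M.tE_mem k), fun l => by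
    show tE k * tE l * (tE k)⁻¹ = tE l
    rw [(M.tE_comm k l).eq, mul_inv_cancel_right]⟩

theorem q_mem_pairs {i : ℕ} (hi : i < 7) : ∃ π : Perm (Fin 23), IsTab π (qTabs.getD i 0) ∧
    (gen (11 + i), π) ∈ pairs := by
  choose f hf1 hf2 using M.q_conj hi
  have hsq : gen (11 + i) * gen (11 + i) = 1 := M.gen_sq (by omega)
  have hinv : ∀ k, f (f k) = k := fun k => M.tE_inj (by
    rw [← hf2 (f k), ← hf2 k]
    rw [show gen (11 + i) * (gen (11 + i) * tE k * gen (11 + i)) * gen (11 + i) =
      gen (11 + i) * gen (11 + i) * tE k * (gen (11 + i) * gen (11 + i)) by group, hsq, one_mul, mul_one])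
  refine ⟨⟨f, f, hinv, hinv⟩, hf1, mem_prefixGrp gen (by omega), fun k => ?_⟩
  show gen (11 + i) * tE k * (gen (11 + i))⁻¹ = _
  rw [inv_eq_of_mul_eq_one_right hsq, hf2]
  rfl

theorem fstHom_bij : Function.Bijective fstHom := by
  constructor
  · rintro ⟨⟨g, π⟩, h⟩ ⟨⟨g', π'⟩, h'⟩ e
    obtain rfl : g = g' := congrArg Subtype.val e
    have : π = π' := Equiv.ext fun k => M.tE_inj ((h.2 k).symm.trans (h'.2 k))
    subst this; rfl
  · intro y
    have hsub : TSub ≤ (pairs.map (MonoidHom.fst setup.Grp (Perm (Fin 23)))) := by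
      refine (Subgroup.closure_le _).2 ?_
      rintro _ ⟨i, hi, rfl⟩
      rcases Nat.lt_or_ge i 11 with h | h
      · obtain ⟨k, hk⟩ := gen_low h
        exact ⟨_, M.tE_mem_pairs k, hk.symm⟩
      · obtain ⟨j, rfl⟩ := Nat.exists_eq_add_of_le h
        have hi' : 11 + j < 18 := hi
        obtain ⟨π, -, hπ⟩ := M.q_mem_pairs (i := j) (by omega)
        exact ⟨_, hπ, rfl⟩
    obtain ⟨p, hp, e⟩ := hsub y.2
    exact ⟨⟨p, hp⟩, Subtype.ext e⟩

/-- The permutation of the transpositions. -/
noncomputable def permHom : TSub →* Perm (Fin 23) :=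
  ((MonoidHom.snd _ _).comp pairs.subtype).comp
    (MulEquiv.ofBijective fstHom M.fstHom_bij).symm.toMonoidHom

theorem permHom_spec (g : TSub) (k : Fin 23) :
    (g : setup.Grp) * tE k * (g : setup.Grp)⁻¹ = tE (M.permHom g k) := by
  obtain ⟨p, rfl⟩ := (MulEquiv.ofBijective fstHom M.fstHom_bij).surjective g
  simp only [permHom, MonoidHom.comp_apply, MulEquiv.coe_toMonoidHom, MulEquiv.symm_apply_apply]
  exact p.2.2 k

theorem permHom_eq {g : TSub} {π : Perm (Fin 23)}
    (h : ∀ k, (g : setup.Grp) * tE k * (g : setup.Grp)⁻¹ = tE (π k)) : M.permHom g = π :=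
  Equiv.ext fun k => M.tE_inj ((M.permHom_spec g k).symm.trans (h k))

theorem card_T_and_perms : Nat.card TSub = 2 ^ 18 ∧
    (∀ g : TSub, M.permHom g = 1 → (g : setup.Grp) ∈ M.E) ∧
    ∀ g : TSub, ∃ t ∈ pTabs, IsTab (M.permHom g) t := by
  classical
  haveI := finite_grp
  have hup : Nat.card TSub ≤ 2 ^ 18 :=
    card_prefix_le gen 18 (fun i hi => M.gen_sq hi) (fun i hi j hj => M.gen_conj hi hj)
  have hker : ∀ x ∈ M.E.subgroupOf TSub, M.permHom x = 1 := by
    intro x hx
    refine M.permHom_eq fun k => ?_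
    obtain ⟨v, -, hv⟩ := Subgroup.mem_subgroupOf.1 hx
    rw [hv, M.tE_coord k, M.sel_basis_mul, Nat.xor_comm, ← M.sel_basis_mul, mul_inv_cancel_right,
      ← M.tE_coord, Equiv.Perm.one_apply]
  have hR : ∀ t ∈ slpTabs qTabs pSteps, InTab M.permHom.range t := by
    refine inTab_slp pSteps qTabs (fun t ht => ?_) perm_ok.1
    obtain ⟨i, hi, rfl⟩ := List.getElem_of_mem ht
    have hi7 : i < 7 := words_ok.2.2.2.2.2.2.1 ▸ hi
    obtain ⟨π, hπ, hmem⟩ := M.q_mem_pairs hi7
    rw [List.getD_eq_getElem _ _ hi] at hπ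
    exact ⟨π, ⟨⟨_, hmem.1⟩, M.permHom_eq hmem.2⟩, hπ⟩
  choose σ hσ hσt using fun i : Fin pTabs.length =>
    hR pTabs[i.1] (List.mem_append_right _ (List.getElem_mem i.2))
  let F : Fin pTabs.length → M.permHom.range := fun i => ⟨σ i, hσ i⟩
  have hF : Function.Injective F := by
    intro i j e
    have e' : σ i = σ j := congrArg Subtype.val e
    have hget : ∀ x ∈ List.range 23, tget pTabs[i.1] x = tget pTabs[j.1] x := fun x hx => by
      have h1 := hσt i ⟨x, List.mem_range.1 hx⟩
      have h2 := hσt j ⟨x, List.mem_range.1 hx⟩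
      rw [e'] at h1
      exact h1.symm.trans h2
    have hk := GraphPerm.nodup_of_noDup perm_ok.2.2
    refine Fin.ext ((List.Nodup.getElem_inj_iff hk (hi := by simp) (hj := by simp)).1 ?_)
    rw [List.getElem_map, List.getElem_map]
    exact congrArg (List.foldl (fun s x => 23 * s + x) 0) (List.map_congr_left hget)
  have hlen : pTabs.length = 128 := perm_ok.2.1
  have hlow : 128 ≤ Nat.card M.permHom.range := by
    have := Nat.card_le_card_of_injective F hF
    rwa [Nat.card_fin, hlen] at this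
  have hE : M.E.subgroupOf TSub ≤ M.permHom.ker := fun x hx => hker x hx
  have hEc : Nat.card ↥(M.E.subgroupOf TSub) = 2048 := by
    rw [Nat.card_congr (Subgroup.subgroupOfEquivOfLe M.E_le).toEquiv, M.card_E]
  have hmul : Nat.card M.permHom.range * Nat.card M.permHom.ker = Nat.card TSub := by
    rw [← Nat.card_congr (QuotientGroup.quotientKerEquivRange M.permHom).toEquiv,
      ← Subgroup.card_eq_card_quotient_mul_card_subgroup]
  have hk : 2048 ≤ Nat.card M.permHom.ker := hEc ▸ Subgroup.card_le_of_le hE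
  have h1 : Nat.card M.permHom.range * 2048 ≤ 128 * 2048 := by
    calc _ ≤ Nat.card M.permHom.range * Nat.card M.permHom.ker := Nat.mul_le_mul_left _ hk
      _ ≤ 128 * 2048 := by rw [hmul]; exact hup
  have hRc : Nat.card M.permHom.range = 128 :=
    le_antisymm (Nat.le_of_mul_le_mul_right h1 (by norm_num)) hlow
  have hKc : Nat.card M.permHom.ker = 2048 := by
    refine le_antisymm ?_ hk
    have : 128 * Nat.card M.permHom.ker ≤ 2 ^ 18 := by rw [← hRc, hmul]; exact hup
    omega
  refine ⟨by rw [← hmul, hRc, hKc]; norm_num, fun g hg => ?_, fun g => ?_⟩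
  · have := Subgroup.eq_of_le_of_card_ge hE (by rw [hKc, hEc])
    have hg' : g ∈ M.E.subgroupOf TSub := this ▸ hg
    exact Subgroup.mem_subgroupOf.1 hg'
  · have hsurj : Function.Bijective F := by
      rw [Nat.bijective_iff_injective_and_card]
      exact ⟨hF, by rw [Nat.card_fin, hlen, hRc]⟩
    obtain ⟨i, hi⟩ := hsurj.2 ⟨M.permHom g, g, rfl⟩
    exact ⟨pTabs[i.1], List.getElem_mem _, by
      have := hσt i
      rwa [show σ i = M.permHom g from congrArg Subtype.val hi] at this⟩

end Model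

end CfsgLib.Fi23Sylow
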